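import Cfsg.Prelude.Def_LieExceptional
import Cfsg.Agent.Lib.PermGp.Basic
import Cfsg.Agent.Lib.CT.Frobenius
import Mathlib.GroupTheory.PGroup
import Mathlib.GroupTheory.FixedPointFree
import Mathlib.GroupTheory.Index
import Mathlib.Tactic

/-! Regular normal subgroups of point stabilisers in Zassenhaus groups. -/

set_option autoImplicit false
set_option linter.unusedSectionVars false

namespace Cfsg.Agent.PermGp.ZEven

open MulAction

variable {G Ω : Type*} [Group G] [MulAction G Ω]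

/-- A normal subgroup of the stabiliser of `a` regular on the other points. -/
structure ZKer (a : Ω) (F : Subgroup G) : Prop where
  fix : ∀ u ∈ F, u • a = a
  conj : ∀ g : G, g • a = a → ∀ u ∈ F, g * u * g⁻¹ ∈ F
  exists_eq : ∀ y z : Ω, y ≠ a → z ≠ a → ∃ u ∈ F, u • y = z
  semi : ∀ u ∈ F, ∀ y : Ω, y ≠ a → u • y = y → u = 1

theorem zker_of_regular {a : Ω} {F : Subgroup G} (hle : F ≤ stabilizer G a)
    (hn : (F.subgroupOf (stabilizer G a)).Normal)
    (hreg : ∀ y z : Ω, y ≠ a → z ≠ a → ∃! u : F, (u : G) • y = z) : ZKer a F where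
  fix u hu := hle hu
  conj g hg u hu := by
    have := hn.conj_mem ⟨u, hle hu⟩ hu ⟨g, hg⟩
    exact this
  exists_eq y z hy hz := by
    obtain ⟨u, hu, -⟩ := hreg y z hy hz
    exact ⟨u, u.2, hu⟩
  semi u hu y hy huy := congrArg Subtype.val
    ((hreg y y hy hy).unique (y₁ := (⟨u, hu⟩ : F)) (y₂ := 1) huy (one_smul G y))

variable [Finite G] [Fintype Ω] {a b : Ω} {F : Subgroup G}

theorem ZKer.translate_inj (Z : ZKer a F) {y : Ω} (hy : y ≠ a) {u v : G} (hu : u ∈ F) (hv : v ∈ F)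
    (h : u • y = v • y) : u = v :=
  (inv_mul_eq_one.mp (Z.semi (v⁻¹ * u) (F.mul_mem (F.inv_mem hv) hu) y hy
    (by rw [mul_smul, h, inv_smul_smul]))).symm

theorem ZKer.ne_of_mem (Z : ZKer a F) {u : G} (hu : u ∈ F) {y : Ω} (hy : y ≠ a) : u • y ≠ a := fun h =>
  hy (MulAction.injective u (h.trans (Z.fix u hu).symm))

theorem ZKer.card_add_one (Z : ZKer a F) (hab : a ≠ b) : Nat.card F + 1 = Fintype.card Ω := by
  classical
  have h : Nat.card F = Nat.card {y : Ω // y ≠ a} := by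
    refine Nat.card_eq_of_bijective (fun u : F => ⟨(u : G) • b, Z.ne_of_mem u.2 hab.symm⟩) ⟨?_, ?_⟩
    · intro u v huv
      exact Subtype.ext (Z.translate_inj hab.symm u.2 v.2 (congrArg Subtype.val huv))
    · rintro ⟨y, hy⟩
      obtain ⟨u, hu, huy⟩ := Z.exists_eq b y hab.symm hy
      exact ⟨⟨u, hu⟩, Subtype.ext huy⟩
  rw [h, Nat.card_eq_fintype_card, Fintype.card_subtype_compl, Fintype.card_subtype_eq]
  have : 0 < Fintype.card Ω := Fintype.card_pos_iff.mpr ⟨a⟩
  omega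

/-- The hypotheses on the whole group. -/
structure ZGrp (G Ω : Type*) [Group G] [MulAction G Ω] : Prop where
  faith : FaithfulSMul G Ω
  two : IsMultiplyPretransitive G Ω 2
  three : ∀ g : G, ∀ a b c : Ω, a ≠ b → b ≠ c → a ≠ c → g • a = a → g • b = b → g • c = c → g = 1
  nontriv : ∃ g : G, g ≠ 1 ∧ ∃ a b : Ω, a ≠ b ∧ g • a = a ∧ g • b = b

theorem zgrp_of_zassenhaus {G Ω : Type*} [Group G] [MulAction G Ω] (hZ : Cfsg.IsZassenhausGroup G Ω) :
    ZGrp G Ω := ⟨hZ.1, hZ.2.1, hZ.2.2.1, hZ.2.2.2.1⟩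

theorem ZGrp.exists_third (Z : ZGrp G Ω) (a b : Ω) : ∃ c, c ≠ a ∧ c ≠ b := by
  classical
  haveI := Z.faith
  obtain ⟨g, hg, x, y, hxy, hgx, hgy⟩ := Z.nontriv
  obtain ⟨w, hw⟩ : ∃ w : Ω, g • w ≠ w := by
    by_contra! hall
    exact hg (FaithfulSMul.eq_of_smul_eq_smul (α := Ω) fun w => by rw [hall w, one_smul])
  have hwx : w ≠ x := fun e => hw (e ▸ hgx)
  have hwy : w ≠ y := fun e => hw (e ▸ hgy)
  by_contra! hall
  have hcard : ({x, y, w} : Finset Ω).card = 3 :=
    Finset.card_eq_three.mpr ⟨x, y, w, hxy, hwx.symm, hwy.symm, rfl⟩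
  have hsub : ({x, y, w} : Finset Ω) ⊆ {a, b} := fun z _ => by
    by_cases hz : z = a
    · simp [hz]
    · simp [hall z hz]
  have := (Finset.card_le_card hsub).trans Finset.card_le_two
  omega

theorem ZGrp.stab_pos (Z : ZGrp G Ω) (hab : a ≠ b) :
    1 < Nat.card ↥(stabilizer G a ⊓ stabilizer G b) := by
  obtain ⟨g, hg, x, y, hxy, hgx, hgy⟩ := Z.nontriv
  obtain ⟨k, hkx, hky⟩ := two_trans_exists Z.two hxy hab
  haveI : Nontrivial ↥(stabilizer G a ⊓ stabilizer G b) := by
    refine ⟨⟨k * g * k⁻¹, Subgroup.mem_inf.mpr ⟨?_, ?_⟩⟩, 1, fun h => hg ?_⟩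
    · rw [mem_stabilizer_iff, ← hkx, mul_smul, mul_smul, inv_smul_smul, hgx]
    · rw [mem_stabilizer_iff, ← hky, mul_smul, mul_smul, inv_smul_smul, hgy]
    · exact conj_eq_one_iff.mp (congrArg Subtype.val h)
  exact Finite.one_lt_card

theorem exists_zker (Z : ZGrp G Ω) (hab : a ≠ b) : ∃ F : Subgroup G, ZKer a F := by
  classical
  set B := stabilizer G a with hB
  let H : Subgroup B := (stabilizer G b).subgroupOf B
  have hTI : CT.IsTI H (H : Set B) := by
    intro g hg s hs hgs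
    by_contra hs1
    have hs1' : (s : G) ≠ 1 := fun e => hs1 (Subtype.ext e)
    have e1 : (s : G) • b = b := hs
    have e2 : ((g : G) * s * (g : G)⁻¹) • b = b := hgs
    rw [mul_smul, mul_smul, smul_eq_iff_eq_inv_smul] at e2
    have hgb : (g : G)⁻¹ • b ≠ b := fun h => hg (by
      show (g : G) • b = b
      nth_rewrite 1 [← h]
      rw [smul_inv_smul])
    have hga : (g : G)⁻¹ • b ≠ a := fun h => hab.symm (by
      rw [inv_smul_eq_iff] at h
      rw [h]; exact g.2)
    exact hs1' (Z.three s a b ((g : G)⁻¹ • b) hab hgb.symm hga.symm s.2 e1 e2)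
  haveI := Fintype.ofFinite B
  obtain ⟨K, hK, hKcard, -, -, hKmem⟩ := CT.frobenius_kernel hTI
  have htransB : ∀ y : Ω, y ≠ a → ∃ x : B, (x : G) • b = y := fun y hy => by
    obtain ⟨g, h1, h2⟩ := two_trans_exists Z.two hab hy.symm
    exact ⟨⟨g, h1⟩, h2⟩
  have hne : ∀ x : B, (x : G) • b ≠ a := fun x h =>
    hab.symm (MulAction.injective (x : G) (h.trans x.2.symm))
  have hindex : H.index + 1 = Fintype.card Ω := by
    have h : Nat.card (B ⧸ H) = Nat.card {y : Ω // y ≠ a} := by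
      refine Nat.card_eq_of_bijective (Quotient.lift
        (fun x : B => (⟨(x : G) • b, hne x⟩ : {y : Ω // y ≠ a})) (fun x y hxy => Subtype.ext ?_)) ⟨?_, ?_⟩
      · have h' : ((x⁻¹ * y : B) : G) • b = b := QuotientGroup.leftRel_apply.mp hxy
        rw [Subgroup.coe_mul, Subgroup.coe_inv, mul_smul, inv_smul_eq_iff] at h'
        exact h'.symm
      · intro q q' hq
        induction q using Quotient.inductionOn with
        | h x =>
          induction q' using Quotient.inductionOn with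
          | h y =>
            refine Quotient.sound (QuotientGroup.leftRel_apply.mpr ?_)
            show ((x⁻¹ * y : B) : G) • b = b
            have hq' : (x : G) • b = (y : G) • b := congrArg Subtype.val hq
            rw [Subgroup.coe_mul, Subgroup.coe_inv, mul_smul, inv_smul_eq_iff, hq']
      · rintro ⟨y, hy⟩
        obtain ⟨x, hx⟩ := htransB y hy
        exact ⟨Quotient.mk _ x, Subtype.ext hx⟩
    rw [Subgroup.index_eq_card, h, Nat.card_eq_fintype_card, Fintype.card_subtype_compl, Fintype.card_subtype_eq]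
    have : 0 < Fintype.card Ω := Fintype.card_pos_iff.mpr ⟨a⟩
    omega
  have hsemi : ∀ x : B, x ∈ K → ∀ y : Ω, y ≠ a → (x : G) • y = y → x = 1 := by
    intro x hx y hy hxy
    rcases (hKmem x).mp hx with h | h
    · exact h
    obtain ⟨g, rfl⟩ := htransB y hy
    refine absurd ?_ (h g)
    show ((g⁻¹ * x * g : B) : G) • b = b
    rw [Subgroup.coe_mul, Subgroup.coe_mul, Subgroup.coe_inv, mul_smul, mul_smul, hxy, inv_smul_smul]
  refine ⟨K.map B.subtype, ?_, ?_, ?_, ?_⟩
  · rintro _ ⟨x, -, rfl⟩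
    exact x.2
  · rintro g hg _ ⟨x, hx, rfl⟩
    exact ⟨(⟨g, hg⟩ : B) * x * (⟨g, hg⟩ : B)⁻¹, hK.conj_mem x hx _, rfl⟩
  · intro y z hy hz
    let f : K → {w : Ω // w ≠ a} := fun x => ⟨((x : B) : G) • y, fun h =>
      hy (MulAction.injective ((x : B) : G) (h.trans (x : B).2.symm))⟩
    have hinj : Function.Injective f := by
      intro x x' h
      have h' : ((x : B) : G) • y = ((x' : B) : G) • y := congrArg Subtype.val h
      have := hsemi (((x' : B))⁻¹ * x) (K.mul_mem (K.inv_mem x'.2) x.2) y hy (by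
        rw [Subgroup.coe_mul, Subgroup.coe_inv, mul_smul, h', inv_smul_smul])
      exact Subtype.ext (inv_mul_eq_one.mp this).symm
    have hcard : Nat.card K = Nat.card {w : Ω // w ≠ a} := by
      rw [hKcard, Nat.card_eq_fintype_card, Fintype.card_subtype_compl, Fintype.card_subtype_eq]
      omega
    obtain ⟨x, hx⟩ := ((Nat.bijective_iff_injective_and_card f).mpr ⟨hinj, hcard⟩).2 ⟨z, hz⟩
    exact ⟨_, ⟨(x : B), x.2, rfl⟩, congrArg Subtype.val hx⟩
  · rintro _ ⟨x, hx, rfl⟩ y hy hxy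
    rw [hsemi x hx y hy hxy]
    rfl

theorem ZKer.conj_smul (hZ : ZKer a F) {g u : G} (hgb : g • b = b) (hu : u ∈ F) :
    (g * u * g⁻¹) • b = g • u • b := by
  rw [mul_smul, mul_smul, inv_smul_eq_iff.mpr hgb.symm]

/-- Two-point stabilisers act semiregularly on the kernel. -/
theorem ZKer.fpf (hZ : ZKer a F) (Z : ZGrp G Ω) (hab : a ≠ b) {g u : G} (hga : g • a = a) (hgb : g • b = b)
    (hu : u ∈ F) (hu1 : u ≠ 1) (h : g * u * g⁻¹ = u) : g = 1 := by
  refine Z.three g a b (u • b) hab (fun e => hu1 (hZ.semi u hu b hab.symm e.symm))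
    (fun e => hZ.ne_of_mem hu hab.symm e.symm) hga hgb ?_
  rw [← hZ.conj_smul hgb hu, h]

theorem card_orbit (hZ : ZKer a F) (Z : ZGrp G Ω) (hab : a ≠ b) {u : G} (hu : u ∈ F) (hu1 : u ≠ 1) :
    Nat.card {v : G // ∃ h ∈ stabilizer G a ⊓ stabilizer G b, h * u * h⁻¹ = v} =
      Nat.card ↥(stabilizer G a ⊓ stabilizer G b) := by
  refine (Nat.card_eq_of_bijective (fun h => ⟨(h : G) * u * (h : G)⁻¹, h, h.2, rfl⟩) ⟨?_, ?_⟩).symm
  · intro h k hhk
    have e : (h : G) * u * (h : G)⁻¹ = k * u * (k : G)⁻¹ := congrArg Subtype.val hhk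
    have hm := Subgroup.mem_inf.mp ((stabilizer G a ⊓ stabilizer G b).mul_mem
      ((stabilizer G a ⊓ stabilizer G b).inv_mem k.2) h.2)
    have := hZ.fpf Z hab (g := (k : G)⁻¹ * h) hm.1 hm.2 hu hu1 (by
      calc (k : G)⁻¹ * h * u * ((k : G)⁻¹ * h)⁻¹ = (k : G)⁻¹ * ((h : G) * u * (h : G)⁻¹) * k := by group
      _ = u := by rw [e]; group)
    exact Subtype.ext (inv_mul_eq_one.mp this).symm
  · rintro ⟨v, h, hh, rfl⟩
    exact ⟨⟨h, hh⟩, rfl⟩

/-- The kernel is elementary abelian when the two-point stabilisers are large. -/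
theorem elementary (hZ : ZKer a F) (Z : ZGrp G Ω) (hab : a ≠ b)
    (hd : Fintype.card Ω - 2 ≤ 2 * Nat.card ↥(stabilizer G a ⊓ stabilizer G b)) :
    IsMulCommutative F ∧ ∃ p f : ℕ, p.Prime ∧ (∀ u ∈ F, u ^ p = 1) ∧ Fintype.card Ω = p ^ f + 1 := by
  classical
  set H := stabilizer G a ⊓ stabilizer G b with hH
  set d := Nat.card H with hddef
  have hn := hZ.card_add_one hab
  have hd1 : 0 < d := Nat.card_pos
  obtain ⟨c, hca, hcb⟩ := Z.exists_third a b
  have h3 : 3 ≤ Fintype.card Ω := by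
    have := Finset.card_le_univ ({a, b, c} : Finset Ω)
    rwa [Finset.card_eq_three.mpr ⟨a, b, c, hab, hca.symm, hcb.symm, rfl⟩] at this
  haveI := Fintype.ofFinite G
  let Fs : Finset G := Finset.univ.filter fun u => u ∈ F ∧ u ≠ 1
  have hFs : Fs.card = Nat.card F - 1 := by
    have h : Fs = (Finset.univ.filter fun u : G => u ∈ F).erase 1 := by ext u; simp [Fs, and_comm]
    rw [h, Finset.card_erase_of_mem (by simp), ← Fintype.card_subtype, Nat.card_eq_fintype_card]
  let O : G → Finset G := fun u => Finset.univ.filter fun v => ∃ h ∈ H, h * u * h⁻¹ = v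
  have hO : ∀ u ∈ Fs, (O u).card = d := fun u hu => by
    obtain ⟨hu, hu1⟩ := (Finset.mem_filter.mp hu).2
    rw [hddef, ← card_orbit hZ Z hab hu hu1, Nat.card_eq_fintype_card, Fintype.card_subtype]
  have hmemH : ∀ {h : G}, h ∈ H → h • a = a ∧ h • b = b := fun hh => Subgroup.mem_inf.mp hh
  have hOsub : ∀ u ∈ Fs, O u ⊆ Fs := fun u hu v hv => by
    obtain ⟨hu, hu1⟩ := (Finset.mem_filter.mp hu).2
    obtain ⟨h, hh, rfl⟩ := (Finset.mem_filter.mp hv).2
    exact Finset.mem_filter.mpr ⟨Finset.mem_univ _, hZ.conj h (hmemH hh).1 u hu,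
      fun e => hu1 (conj_eq_one_iff.mp e)⟩
  have hOdisj : ∀ u v, v ∉ O u → Disjoint (O u) (O v) := by
    intro u v hv
    rw [Finset.disjoint_left]
    intro w hw hw'
    obtain ⟨h, hh, rfl⟩ := (Finset.mem_filter.mp hw).2
    obtain ⟨k, hk, hkw⟩ := (Finset.mem_filter.mp hw').2
    refine hv (Finset.mem_filter.mpr ⟨Finset.mem_univ _, k⁻¹ * h, H.mul_mem (H.inv_mem hk) hh, ?_⟩)
    calc k⁻¹ * h * u * (k⁻¹ * h)⁻¹ = k⁻¹ * (h * u * h⁻¹) * k := by group
    _ = v := by rw [← hkw]; group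
  have hcover : ∀ u ∈ Fs, ∀ v ∈ Fs, v ∉ O u → O u ∪ O v = Fs ∧ Nat.card F = 2 * d + 1 := by
    intro u hu v hv hnot
    have hle : O u ∪ O v ⊆ Fs := Finset.union_subset (hOsub u hu) (hOsub v hv)
    have hc : (O u ∪ O v).card = 2 * d := by
      rw [Finset.card_union_of_disjoint (hOdisj u v hnot), hO u hu, hO v hv]; ring
    have hcle := Finset.card_le_card hle
    refine ⟨Finset.eq_of_subset_of_card_le hle ?_, ?_⟩ <;> omega
  have hFne : Fs.Nonempty := Finset.card_pos.mp (by omega)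
  obtain ⟨p, hp, hpdvd⟩ := Nat.exists_prime_and_dvd (show Nat.card F ≠ 1 by omega)
  haveI := Fact.mk hp
  obtain ⟨x₀, hx₀⟩ := exists_prime_orderOf_dvd_card' (G := F) p hpdvd
  have hx₀1 : (x₀ : G) ≠ 1 := fun e => by
    rw [show x₀ = 1 from Subtype.ext e, orderOf_one] at hx₀
    exact hp.one_lt.ne hx₀
  have hx₀p : (x₀ : G) ^ p = 1 := by
    have := congrArg Subtype.val (hx₀ ▸ pow_orderOf_eq_one x₀)
    simpa using this
  have hx₀F : (x₀ : G) ∈ Fs := Finset.mem_filter.mpr ⟨Finset.mem_univ _, x₀.2, hx₀1⟩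
  have hconjpow : ∀ h u : G, u ^ p = 1 → (h * u * h⁻¹) ^ p = 1 := fun h u hu => by
    rw [conj_pow, hu, mul_one, mul_inv_cancel]
  have finish : (∀ u ∈ F, u ^ p = 1) → (∀ u ∈ F, ∀ v ∈ F, u * v = v * u) →
      IsMulCommutative F ∧ ∃ p f : ℕ, p.Prime ∧ (∀ u ∈ F, u ^ p = 1) ∧ Fintype.card Ω = p ^ f + 1 := by
    intro hexp hcomm
    have hP : IsPGroup p F := fun u => ⟨1, Subtype.ext (by rw [pow_one]; exact hexp u u.2)⟩
    obtain ⟨f, hf⟩ := hP.exists_card_eq
    exact ⟨isMulCommutative_iff.mpr fun u v => Subtype.ext (hcomm u u.2 v v.2), p, f, hp, hexp, by omega⟩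
  by_cases hcase : Nat.card F = 2 * d + 1 ∧ Even d
  · obtain ⟨hF, hev⟩ := hcase
    obtain ⟨z, hz⟩ := exists_prime_orderOf_dvd_card' (G := H) 2 (even_iff_two_dvd.mp hev)
    have hzz : (z : G) * z = 1 := by
      have := congrArg Subtype.val (hz ▸ pow_orderOf_eq_one z)
      simpa [pow_two] using this
    have hz1 : (z : G) ≠ 1 := fun e => by
      rw [show z = 1 from Subtype.ext e, orderOf_one] at hz
      omega
    have hzinv : (z : G)⁻¹ = z := inv_eq_of_mul_eq_one_right hzz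
    let φ : F →* F :=
      { toFun := fun u => ⟨z * u * (z : G)⁻¹, hZ.conj z (hmemH z.2).1 u u.2⟩
        map_one' := Subtype.ext (by simp)
        map_mul' := fun u v => Subtype.ext (by
          show (z : G) * (u * v : G) * (z : G)⁻¹ = z * u * (z : G)⁻¹ * (z * v * (z : G)⁻¹)
          group) }
    have hfp : MonoidHom.FixedPointFree φ := fun u hu => by
      by_contra hu1
      exact hz1 (hZ.fpf Z hab (hmemH z.2).1 (hmemH z.2).2 u.2 (fun e => hu1 (Subtype.ext e))
        (congrArg Subtype.val hu))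
    have hinvol : Function.Involutive φ := fun u => Subtype.ext (by
      show (z : G) * (z * u * (z : G)⁻¹) * (z : G)⁻¹ = u
      rw [hzinv, show (z : G) * (z * u * z) * z = (z * z) * u * (z * z) by group, hzz, one_mul, mul_one])
    have hcomm : ∀ u ∈ F, ∀ v ∈ F, u * v = v * u := fun u hu v hv =>
      congrArg Subtype.val (hfp.commute_all_of_involutive hinvol ⟨u, hu⟩ ⟨v, hv⟩).eq
    refine finish ?_ hcomm
    by_contra! hex
    obtain ⟨y, hyF, hy⟩ := hex
    have hy1 : y ≠ 1 := fun e => hy (by rw [e, one_pow])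
    have hyFs : y ∈ Fs := Finset.mem_filter.mpr ⟨Finset.mem_univ _, hyF, hy1⟩
    obtain ⟨hun, -⟩ := hcover x₀ hx₀F y hyFs (fun h => hy (by
      obtain ⟨k, -, rfl⟩ := (Finset.mem_filter.mp h).2
      exact hconjpow _ _ hx₀p))
    let E : Subgroup G :=
      { carrier := {u | u ∈ F ∧ u ^ p = 1}
        one_mem' := ⟨F.one_mem, one_pow p⟩
        mul_mem' := fun {u v} hu hv => ⟨F.mul_mem hu.1 hv.1, by
          rw [(show Commute u v from hcomm u hu.1 v hv.1).mul_pow, hu.2, hv.2, one_mul]⟩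
        inv_mem' := fun {u} hu => ⟨F.inv_mem hu.1, by rw [inv_pow, hu.2, inv_one]⟩ }
    have hEs : (Finset.univ.filter fun u : G => u ∈ E) = insert 1 (O x₀) := by
      ext u
      simp only [Finset.mem_filter, Finset.mem_univ, true_and, Finset.mem_insert]
      constructor
      · intro hu
        by_cases hu1 : u = 1
        · exact Or.inl hu1
        · refine Or.inr ?_
          have : u ∈ O x₀ ∪ O y := hun ▸ Finset.mem_filter.mpr ⟨Finset.mem_univ _, hu.1, hu1⟩
          rcases Finset.mem_union.mp this with h | h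
          · exact h
          · obtain ⟨k, -, rfl⟩ := (Finset.mem_filter.mp h).2
            refine absurd ?_ hy
            have h2 := hu.2
            rw [conj_pow] at h2
            exact conj_eq_one_iff.mp h2
      · rintro (rfl | h)
        · exact E.one_mem
        · obtain ⟨k, hk, rfl⟩ := (Finset.mem_filter.mp h).2
          exact ⟨hZ.conj k (hmemH hk).1 _ x₀.2, hconjpow _ _ hx₀p⟩
    have hE : Nat.card E = d + 1 := by
      rw [Nat.card_eq_fintype_card, Fintype.card_subtype, hEs,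
        Finset.card_insert_of_notMem (fun h => ((Finset.mem_filter.mp (hOsub _ hx₀F h)).2).2 rfl), hO _ hx₀F]
    have hdvd : Nat.card E ∣ Nat.card F := Subgroup.card_dvd_of_le (fun u hu => hu.1)
    rw [hE, hF] at hdvd
    have h1 : d + 1 ∣ 1 := by
      have h2 : d + 1 ∣ 2 * d + 2 := ⟨2, by ring⟩
      exact (Nat.dvd_add_right hdvd).mp (by rwa [show 2 * d + 2 = 2 * d + 1 + 1 by ring] at h2)
    have := Nat.le_of_dvd one_pos h1
    omega
  · -- every element is conjugate to a given one or to its inverse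
    have hcov : ∀ u ∈ Fs, ∀ v ∈ Fs, v ∈ O u ∨ v ∈ O u⁻¹ := by
      intro u hu v hv
      by_contra! hnot
      obtain ⟨hu', hu1⟩ := (Finset.mem_filter.mp hu).2
      have huinv : u⁻¹ ∈ Fs := Finset.mem_filter.mpr
        ⟨Finset.mem_univ _, F.inv_mem hu', fun e => hu1 (inv_eq_one.mp e)⟩
      obtain ⟨hun, hF⟩ := hcover u hu v hv hnot.1
      have hodd : Odd d := Nat.not_even_iff_odd.mp fun h => hcase ⟨hF, h⟩
      have hninv : u⁻¹ ∉ O u := by
        intro h
        obtain ⟨k, hk, hku⟩ := (Finset.mem_filter.mp h).2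
        have hk2 : k * k = 1 := hZ.fpf Z hab (hmemH (H.mul_mem hk hk)).1 (hmemH (H.mul_mem hk hk)).2 hu' hu1 (by
          rw [show k * k * u * (k * k)⁻¹ = k * (k * u * k⁻¹) * k⁻¹ by group, hku,
            show k * u⁻¹ * k⁻¹ = (k * u * k⁻¹)⁻¹ by group, hku, inv_inv])
        have hk1 : k = 1 := by
          have hkd : (⟨k, hk⟩ : H) ^ d = 1 := pow_card_eq_one'
          have hkd' : k ^ d = 1 := congrArg Subtype.val hkd
          obtain ⟨m, hm⟩ := hodd
          rw [hm, pow_succ, pow_mul, pow_two, hk2, one_pow, one_mul] at hkd'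
          exact hkd'
        rw [hk1, one_mul, inv_one, mul_one] at hku
        have h2 : orderOf (⟨u, hu'⟩ : F) ∣ 2 := orderOf_dvd_of_pow_eq_one (Subtype.ext (by
          show u ^ 2 = 1
          rw [pow_two]
          nth_rewrite 1 [hku]
          rw [inv_mul_cancel]))
        have h3 : orderOf (⟨u, hu'⟩ : F) ∣ Nat.card F := orderOf_dvd_natCard _
        rw [hF] at h3
        rcases (Nat.dvd_prime Nat.prime_two).mp h2 with h4 | h4
        · exact hu1 (congrArg Subtype.val (orderOf_eq_one_iff.mp h4))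
        · rw [h4] at h3; omega
      obtain ⟨hun', -⟩ := hcover u hu u⁻¹ huinv hninv
      rw [← hun', Finset.mem_union] at hv
      exact hv.elim hnot.1 hnot.2
    have hexp : ∀ v ∈ F, v ^ p = 1 := by
      intro v hv
      by_cases hv1 : v = 1
      · rw [hv1, one_pow]
      rcases hcov _ hx₀F v (Finset.mem_filter.mpr ⟨Finset.mem_univ _, hv, hv1⟩) with h | h
      all_goals obtain ⟨k, -, rfl⟩ := (Finset.mem_filter.mp h).2
      · exact hconjpow _ _ hx₀p
      · exact hconjpow _ _ (by rw [inv_pow, hx₀p, inv_one])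
    refine finish hexp ?_
    have hP : IsPGroup p F := fun u => ⟨1, Subtype.ext (by rw [pow_one]; exact hexp u u.2)⟩
    haveI : Nontrivial F := ⟨⟨x₀, 1, fun e => hx₀1 (congrArg Subtype.val e)⟩⟩
    haveI := hP.center_nontrivial
    obtain ⟨⟨⟨w, hwF⟩, hwc⟩, hw1⟩ := exists_ne (1 : Subgroup.center F)
    have hw : ∀ v ∈ F, v * w = w * v := fun v hv =>
      congrArg Subtype.val (Subgroup.mem_center_iff.mp hwc ⟨v, hv⟩)
    have hwFs : w ∈ Fs := Finset.mem_filter.mpr ⟨Finset.mem_univ _, hwF, fun e => hw1 (Subtype.ext (Subtype.ext e))⟩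
    intro u hu v hv
    by_cases hu1 : u = 1
    · rw [hu1, one_mul, mul_one]
    have hcz : ∀ w' : G, (∀ v ∈ F, v * w' = w' * v) → ∀ k ∈ H, ∀ v ∈ F,
        v * (k * w' * k⁻¹) = k * w' * k⁻¹ * v := fun w' hw' k hk v hv => by
      have hv' : k⁻¹ * v * k ∈ F := by
        simpa using hZ.conj k⁻¹ (by rw [inv_smul_eq_iff]; exact (hmemH hk).1.symm) v hv
      calc v * (k * w' * k⁻¹) = k * ((k⁻¹ * v * k) * w') * k⁻¹ := by group
      _ = k * (w' * (k⁻¹ * v * k)) * k⁻¹ := by rw [hw' _ hv']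
      _ = _ := by group
    rcases hcov w hwFs u (Finset.mem_filter.mpr ⟨Finset.mem_univ _, hu, hu1⟩) with h | h
    all_goals obtain ⟨k, hk, rfl⟩ := (Finset.mem_filter.mp h).2
    · exact (hcz w hw k hk v hv).symm
    · exact (hcz w⁻¹ (fun v hv => (Commute.inv_right (hw v hv : Commute v w)).eq) k hk v hv).symm

end Cfsg.Agent.PermGp.ZEven
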