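import Cfsg.Agent.Lib.PermGp.ZassenhausEven.Coords
import Cfsg.Agent.Lib.PermGp.SharplyThreePGL
import Cfsg.Agent.Lib.LinearGroups.Basic

/-! Zassenhaus groups with coordinates are projective special linear groups. -/

set_option autoImplicit false
set_option linter.unusedSectionVars false

namespace Cfsg.Agent.PermGp.ZEven

open MulAction Matrix
open scoped LinearAlgebra.Projectivization

universe u v

variable {G : Type u} {Ω : Type v} [Group G] [MulAction G Ω] [Finite G] [Fintype Ω] {a b : Ω}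
  {F : Subgroup G}

theorem card_group (hZ : ZKer a F) (Z : ZGrp G Ω) (hab : a ≠ b) :
    Nat.card G = Fintype.card Ω * (Nat.card F * Nat.card ↥(stabilizer G a ⊓ stabilizer G b)) := by
  haveI := Z.two
  haveI : IsPretransitive G Ω := isPretransitive_of_is_two_pretransitive
  rw [← card_mul_card_stabilizer (G := G) a, Nat.card_eq_fintype_card (α := Ω)]
  congr 1
  rw [← Nat.card_prod]
  refine (Nat.card_eq_of_bijective (fun x : F × ↥(stabilizer G a ⊓ stabilizer G b) =>
    (⟨(x.1 : G) * x.2, by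
      rw [mem_stabilizer_iff, mul_smul, (Subgroup.mem_inf.mp x.2.2).1, hZ.fix _ x.1.2]⟩ : stabilizer G a))
    ⟨?_, ?_⟩).symm
  · rintro ⟨u, h⟩ ⟨v, k⟩ e
    have e' : (u : G) * h = v * k := congrArg Subtype.val e
    have h1 : (u : G) • b = (v : G) • b := by
      have := congrArg (fun g : G => g • b) e'
      simpa [mul_smul, mem_stabilizer_iff.mp (Subgroup.mem_inf.mp h.2).2,
        mem_stabilizer_iff.mp (Subgroup.mem_inf.mp k.2).2] using this
    obtain rfl : u = v := Subtype.ext (hZ.translate_inj hab.symm u.2 v.2 h1)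
    exact Prod.ext rfl (Subtype.ext (mul_left_cancel e'))
  · rintro ⟨g, hg⟩
    have hgb : g • b ≠ a := fun h => hab.symm (MulAction.injective g (h.trans (mem_stabilizer_iff.mp hg).symm))
    obtain ⟨u, hu, hub⟩ := hZ.exists_eq b (g • b) hab.symm hgb
    refine ⟨(⟨u, hu⟩, ⟨u⁻¹ * g, Subgroup.mem_inf.mpr ⟨?_, ?_⟩⟩), Subtype.ext (mul_inv_cancel_left u g)⟩
    · rw [mem_stabilizer_iff, mul_smul, mem_stabilizer_iff.mp hg, inv_smul_eq_iff, hZ.fix u hu]
    · rw [mem_stabilizer_iff, mul_smul, inv_smul_eq_iff, hub]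

theorem natCard_SL_two_field (K : Type*) [Field K] [Fintype K] :
    Nat.card (Matrix.SpecialLinearGroup (Fin 2) K) = (Fintype.card K + 1) * Fintype.card K * (Fintype.card K - 1) := by
  have h := LinGrp.natCard_SL_mul (F := K) 2 (by norm_num)
  rw [Fin.prod_univ_two] at h
  obtain ⟨k, hk⟩ : ∃ k, Fintype.card K = k + 2 := ⟨Fintype.card K - 2, by
    have := Fintype.one_lt_card (α := K); omega⟩
  simp only [hk, Fin.val_zero, Fin.val_one, pow_zero, pow_one] at h
  have e1 : (k + 2) ^ 2 - 1 = (k + 1) * (k + 3) := by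
    rw [Nat.sub_eq_iff_eq_add (Nat.one_le_pow _ _ (by omega))]; ring
  have e2 : (k + 2) ^ 2 - (k + 2) = (k + 2) * (k + 1) := by
    rw [Nat.sub_eq_iff_eq_add (Nat.le_self_pow (by norm_num) _)]; ring
  rw [show k + 2 - 1 = k + 1 by omega, e1, e2, mul_assoc] at h
  rw [hk, Nat.eq_of_mul_eq_mul_left (by omega) h, show k + 2 - 1 = k + 1 by omega]
  ring

theorem iso_psl {K : Type} [Field K] [Fintype K] {φ : K → Ω} {w : G} (hZ : ZKer a F) (Z : ZGrp G Ω)
    (hab : a ≠ b) (hK : Fintype.card K = 2 * Nat.card ↥(stabilizer G a ⊓ stabilizer G b) + 1)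
    (heven : Even (Nat.card ↥(stabilizer G a ⊓ stabilizer G b))) (C : Coord K a b F φ w) :
    Nonempty (G ≃* Matrix.ProjectiveSpecialLinearGroup (Fin 2) K) := by
  classical
  haveI := Z.faith
  let ψ : ℙ K (Fin 2 → K) → Ω :=
    Projectivization.lift (fun v => if (v : Fin 2 → K) 1 = 0 then a else φ ((v : Fin 2 → K) 0 / (v : Fin 2 → K) 1))
      (by
        rintro ⟨v, hv⟩ ⟨u, hu⟩ c (rfl : v = c • u)
        have hc : c ≠ 0 := fun h => hv (by rw [h, zero_smul])
        by_cases h1 : u 1 = 0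
        · simp [h1]
        · simp [h1, hc, mul_div_mul_left])
  have hψmk : ∀ v hv, ψ (Projectivization.mk _ v hv) = if v 1 = 0 then a else φ (v 0 / v 1) :=
    fun v hv => Projectivization.lift_mk _ _ _ _
  have hψ : Function.Bijective ψ := by
    constructor
    · intro P Q h
      induction P using Projectivization.ind with | _ v hv =>
      induction Q using Projectivization.ind with | _ u hu =>
      rw [hψmk, hψmk] at h
      rw [LinGrp.mk_eq_mk_iff_crossTerm, LinGrp.crossTerm]
      by_cases h1 : v 1 = 0 <;> by_cases h2 : u 1 = 0 <;> simp only [h1, h2, if_true, if_false] at h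
      · rw [h1, h2]; ring
      · exact absurd h.symm (C.ne _)
      · exact absurd h (C.ne _)
      · have h3 := C.inj h
        field_simp at h3
        linear_combination h3
    · intro x
      by_cases hx : x = a
      · exact ⟨.mk _ ![1, 0] LinGrp.e1_ne, by rw [hψmk]; simp [hx]⟩
      · obtain ⟨k, rfl⟩ := C.surj x hx
        exact ⟨.mk _ ![k, 1] (LinGrp.diag_ne _), by rw [hψmk]; simp⟩
  have hchar : ringChar K ≠ 2 := fun h => by
    have := FiniteField.even_card_of_char_two h
    omega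
  have hnegsq : IsSquare (-1 : K) := by
    rw [FiniteField.isSquare_iff hchar (neg_ne_zero.mpr one_ne_zero), hK,
      show (2 * Nat.card ↥(stabilizer G a ⊓ stabilizer G b) + 1) / 2 =
        Nat.card ↥(stabilizer G a ⊓ stabilizer G b) by omega, heven.neg_one_pow]
  let Good : G → Prop := fun g => ∃ m : GL (Fin 2) K, IsSquare m.1.det ∧ ∀ Q, ψ (m • Q) = g • ψ Q
  have hgmul : ∀ g k, Good g → Good k → Good (g * k) := by
    rintro g k ⟨m, pm, hm⟩ ⟨n, pn, hn⟩
    refine ⟨m * n, ?_, fun Q => by rw [mul_smul, hm, hn, mul_smul]⟩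
    rw [GeneralLinearGroup.coe_mul, det_mul]
    exact pm.mul pn
  have hginv : ∀ g, Good g → Good g⁻¹ := by
    rintro g ⟨m, pm, hm⟩
    refine ⟨m⁻¹, ?_, fun Q => by rw [eq_inv_smul_iff, ← hm, smul_inv_smul]⟩
    rw [Matrix.coe_units_inv, det_nonsing_inv, Ring.inverse_eq_inv']
    exact pm.inv
  have hT : ∀ u ∈ F, Good u := by
    intro u hu
    obtain ⟨c, hc⟩ := C.translate u hu
    refine ⟨GeneralLinearGroup.mkOfDetNeZero !![1, c; 0, 1] (by simp), ?_, fun Q => ?_⟩
    · simp [GeneralLinearGroup.mkOfDetNeZero]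
    induction Q using Projectivization.ind with | _ v hv =>
    rw [Projectivization.smul_mk, hψmk, hψmk]
    by_cases h1 : v 1 = 0
    · simp [LinGrp.GL_smul_vec, GeneralLinearGroup.mkOfDetNeZero, h1, hZ.fix u hu]
    · simp [LinGrp.GL_smul_vec, GeneralLinearGroup.mkOfDetNeZero, h1]
      rw [hc]
      congr 1
      field_simp
      ring
  have hH : ∀ g : G, g • a = a → g • b = b → Good g := by
    intro g ga gb
    obtain ⟨c, hc0, hcs, hc⟩ := C.dilate g ga gb
    refine ⟨GeneralLinearGroup.mkOfDetNeZero !![c, 0; 0, 1] (by simp [hc0]), ?_, fun Q => ?_⟩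
    · simpa [GeneralLinearGroup.mkOfDetNeZero] using hcs
    induction Q using Projectivization.ind with | _ v hv =>
    rw [Projectivization.smul_mk, hψmk, hψmk]
    by_cases h1 : v 1 = 0
    · simp [LinGrp.GL_smul_vec, GeneralLinearGroup.mkOfDetNeZero, h1, ga]
    · simp [LinGrp.GL_smul_vec, GeneralLinearGroup.mkOfDetNeZero, h1, hc]
      rw [mul_div_assoc]
  have hw : Good w := by
    refine ⟨GeneralLinearGroup.mkOfDetNeZero !![0, 1; 1, 0] (by simp), ?_, fun Q => ?_⟩
    · simpa [GeneralLinearGroup.mkOfDetNeZero] using hnegsq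
    induction Q using Projectivization.ind with | _ v hv =>
    rw [Projectivization.smul_mk, hψmk, hψmk]
    by_cases h1 : v 1 = 0
    · have h0 : v 0 ≠ 0 := fun h0 => hv (by ext k; fin_cases k <;> assumption)
      simp [LinGrp.GL_smul_vec, GeneralLinearGroup.mkOfDetNeZero, h1, h0, C.swap, C.zero]
    · by_cases h0 : v 0 = 0
      · simp [LinGrp.GL_smul_vec, GeneralLinearGroup.mkOfDetNeZero, h1, h0, C.swap', C.zero]
      · simp [LinGrp.GL_smul_vec, GeneralLinearGroup.mkOfDetNeZero, h1, h0]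
        rw [C.invol _ (div_ne_zero h0 h1), inv_div]
  have hfixa : ∀ g : G, g • a = a → Good g := by
    intro g ga
    obtain ⟨t, ht, hto⟩ := hZ.exists_eq b (g • b) hab.symm
      (fun h => hab.symm (MulAction.injective g (h.trans ga.symm)))
    have := hgmul _ _ (hT t ht) (hH (t⁻¹ * g) (by rw [mul_smul, ga, inv_smul_eq_iff, hZ.fix t ht])
      (by rw [mul_smul, inv_smul_eq_iff, hto]))
    rwa [mul_inv_cancel_left] at this
  have hall : ∀ g, Good g := by
    intro g
    by_cases ga : g • a = a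
    · exact hfixa g ga
    obtain ⟨t, ht, hto⟩ := hZ.exists_eq b (g • a) hab.symm ga
    have h1 := hfixa (w * t⁻¹ * g) (by rw [mul_smul, mul_smul, ← hto, inv_smul_smul, C.swap'])
    have h2 := hgmul _ _ (hT t ht) (hgmul _ _ (hginv _ hw) h1)
    rwa [show t * (w⁻¹ * (w * t⁻¹ * g)) = g by group] at h2
  choose m hmP hm using hall
  have hmk : ∀ (x : GL (Fin 2) K) (Q : ℙ K (Fin 2 → K)), ProjGenLinGroup.mk x • Q = x • Q := fun _ _ => rfl
  have huniq : ∀ (g : G) (n : GL (Fin 2) K), (∀ Q, ψ (n • Q) = g • ψ Q) →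
      ProjGenLinGroup.mk n = ProjGenLinGroup.mk (m g) := by
    intro g n hn
    have hfix : ∀ Q : ℙ K (Fin 2 → K), ((m g)⁻¹ * n) • Q = Q := fun Q => by
      rw [mul_smul, inv_smul_eq_iff]
      exact hψ.1 ((hn Q).trans (hm g Q).symm)
    have h := LinGrp.PGL2_eq_one_of_fix (ProjGenLinGroup.mk ((m g)⁻¹ * n))
      (LinGrp.stdTriple _ 0) (LinGrp.stdTriple _ 1) (LinGrp.stdTriple _ 2)
      (LinGrp.stdTriple_injective.ne (by decide)) (LinGrp.stdTriple_injective.ne (by decide))
      (LinGrp.stdTriple_injective.ne (by decide))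
      ((hmk _ _).trans (hfix _)) ((hmk _ _).trans (hfix _)) ((hmk _ _).trans (hfix _))
    rw [map_mul, map_inv, inv_mul_eq_one] at h
    exact h.symm
  let Φ : G →* Matrix.ProjGenLinGroup (Fin 2) K := MonoidHom.mk' (fun g => ProjGenLinGroup.mk (m g))
    fun g k => by
      rw [← map_mul]
      exact (huniq (g * k) _ fun Q => by rw [mul_smul, hm, hm, mul_smul]).symm
  have hΦ : Function.Injective Φ := fun g k h => FaithfulSMul.eq_of_smul_eq_smul (α := Ω) fun x => by
    obtain ⟨Q, rfl⟩ := hψ.2 x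
    rw [← hm, ← hm]
    have : ProjGenLinGroup.mk (m g) • Q = ProjGenLinGroup.mk (m k) • Q := by
      rw [show ProjGenLinGroup.mk (m g) = ProjGenLinGroup.mk (m k) from h]
    exact congrArg ψ this
  have : Finite (Matrix.ProjGenLinGroup (Fin 2) K) :=
    Finite.of_surjective ProjGenLinGroup.mk ProjGenLinGroup.mk_surjective
  have hle : Φ.range ≤ (Matrix.ProjectiveSpecialLinearGroup.toPGL :
      Matrix.ProjectiveSpecialLinearGroup (Fin 2) K →* _).range := by
    rintro _ ⟨g, rfl⟩
    obtain ⟨r, hr⟩ := hmP g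
    have hdet : (m g).1.det ≠ 0 := ((m g).1.isUnit_iff_isUnit_det.1 (m g).isUnit).ne_zero
    have hr0 : r ≠ 0 := fun h => hdet (by rw [hr, h, zero_mul])
    let A : Matrix.SpecialLinearGroup (Fin 2) K :=
      ⟨r⁻¹ • (m g).1, by rw [det_smul, Fintype.card_fin, hr]; field_simp⟩
    refine ⟨(A : Matrix.ProjectiveSpecialLinearGroup (Fin 2) K), ?_⟩
    show _ = ProjGenLinGroup.mk (m g)
    rw [Matrix.ProjectiveSpecialLinearGroup.toPGL_mk, ProjGenLinGroup.mk_eq_mk_iff]
    refine ⟨Units.mk0 r hr0, Units.ext ?_⟩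
    simp [A, ← Matrix.mul_smul, ← Matrix.diagonal_smul, Pi.smul_def, smul_eq_mul,
      ← Matrix.smul_one_eq_diagonal, smul_smul, hr0]
    show r • (r⁻¹ • (m g).1) = (m g).1
    rw [smul_inv_smul₀ hr0]
  set d := Nat.card ↥(stabilizer G a ⊓ stabilizer G b) with hd
  have hF : Nat.card F = Fintype.card K := by
    have h1 := hZ.card_add_one hab
    have h2 : Fintype.card K = Nat.card {y : Ω // y ≠ a} := by
      rw [← Nat.card_eq_fintype_card]
      exact Nat.card_eq_of_bijective (fun x => ⟨φ x, C.ne x⟩)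
        ⟨fun x y h => C.inj (congrArg Subtype.val h), fun y => by
          obtain ⟨x, hx⟩ := C.surj y y.2; exact ⟨x, Subtype.ext hx⟩⟩
    rw [Nat.card_eq_fintype_card (α := {y : Ω // y ≠ a}), Fintype.card_subtype_compl,
      Fintype.card_subtype_eq] at h2
    omega
  have hG : Nat.card G = (Fintype.card K + 1) * Fintype.card K * d := by
    rw [card_group hZ Z hab, ← hZ.card_add_one hab, hF, mul_assoc]
  have hpsl : Nat.card (Matrix.ProjectiveSpecialLinearGroup (Fin 2) K) = (Fintype.card K + 1) * Fintype.card K * d := by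
    have h := LinGrp.natCard_PSL_mul (n := Fin 2) (F := K)
    have h2 : Fintype.card K - 1 = 2 * d := by omega
    rw [Fintype.card_fin, Nat.card_eq_fintype_card (α := K), natCard_SL_two_field K, h2,
      show Nat.gcd 2 (2 * d) = 2 from Nat.gcd_eq_left (dvd_mul_right 2 d)] at h
    · refine Nat.eq_of_mul_eq_mul_left two_pos ?_
      rw [h]; ring
  have heq : Φ.range = (Matrix.ProjectiveSpecialLinearGroup.toPGL :
      Matrix.ProjectiveSpecialLinearGroup (Fin 2) K →* _).range := by
    refine Subgroup.eq_of_le_of_card_ge hle ?_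
    rw [← Nat.card_congr (MonoidHom.ofInjective Matrix.ProjectiveSpecialLinearGroup.toPGL_injective).toEquiv,
      ← Nat.card_congr (MonoidHom.ofInjective hΦ).toEquiv, hpsl, hG]
  exact ⟨(MonoidHom.ofInjective hΦ).trans ((MulEquiv.subgroupCongr heq).trans
    (MonoidHom.ofInjective Matrix.ProjectiveSpecialLinearGroup.toPGL_injective).symm)⟩

end Cfsg.Agent.PermGp.ZEven
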