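import Mathlib.Algebra.Algebra.Subalgebra.Basic
import Mathlib.RingTheory.LittleWedderburn
import Mathlib.FieldTheory.Finite.Basic
import Mathlib.FieldTheory.Finiteness
import Mathlib.LinearAlgebra.FiniteDimensional.Basic
import Mathlib.Algebra.Ring.TransferInstance
import Mathlib.Algebra.Field.TransferInstance
import Cfsg.Agent.Lib.PermGp.ZassenhausInvolutions
import Cfsg.Agent.Lib.PermGp.ZassenhausEven.Kernel

/-! Coordinates for Zassenhaus groups with two-point stabilisers of half size. -/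

set_option autoImplicit false
set_option linter.unusedSectionVars false

namespace Cfsg.Agent.PermGp.ZEven

open MulAction

universe u v

variable {G : Type u} {Ω : Type v} [Group G] [MulAction G Ω] [Finite G] [Fintype Ω] {a b : Ω}
  {F : Subgroup G}

theorem exists_module {p : ℕ} (hc : ∀ u ∈ F, ∀ v ∈ F, u * v = v * u) (he : ∀ u ∈ F, u ^ p = 1) :
    ∃ (V : Type u) (_ : AddCommGroup V) (_ : Module (ZMod p) V) (_ : Finite V) (τ : V → G),
      (∀ v, τ v ∈ F) ∧ (∀ t ∈ F, ∃ v, τ v = t) ∧ Function.Injective τ ∧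
      τ 0 = 1 ∧ ∀ v w, τ (v + w) = τ v * τ w := by
  letI : CommGroup F :=
    { (inferInstance : Group F) with mul_comm := fun a b => Subtype.ext (hc a a.2 b b.2) }
  have hexp : ∀ x : Additive F, p • x = 0 := fun x =>
    Additive.toMul.injective (Subtype.ext (he (Additive.toMul x : F) (Additive.toMul x).2))
  exact ⟨Additive F, Additive.addCommGroup, AddCommGroup.zmodModule hexp, inferInstance,
    fun v => ((Additive.toMul v : F) : G), fun v => (Additive.toMul v).2,
    fun t ht => ⟨Additive.ofMul ⟨t, ht⟩, rfl⟩, fun v w h => Additive.toMul.injective (Subtype.ext h),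
    rfl, fun v w => rfl⟩

/-- In a finite field of order `4m + 1` some square has a non-square complement to one. -/
theorem exists_square_sub_nonsquare {K : Type*} [Field K] [Fintype K] {d : ℕ}
    (hq : Fintype.card K = 2 * d + 1) (hev : Even d) (hd : 0 < d) :
    ∃ x : K, x ≠ 0 ∧ x ≠ 1 ∧ IsSquare x ∧ ¬ IsSquare (1 - x) := by
  classical
  have hchar : ringChar K ≠ 2 := fun h => by
    have := FiniteField.even_card_of_char_two h
    omega
  have hneg : IsSquare (-1 : K) := by
    rw [FiniteField.isSquare_iff hchar (neg_ne_zero.mpr one_ne_zero), hq,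
      show (2 * d + 1) / 2 = d by omega, hev.neg_one_pow]
  by_contra! hall
  have hsub : ∀ x y : K, IsSquare x → IsSquare y → IsSquare (x - y) := by
    intro x y hx hy
    by_cases hx0 : x = 0
    · rw [hx0, zero_sub, ← neg_one_mul]; exact hneg.mul hy
    have key : IsSquare (1 - y / x) := by
      by_cases h0 : y / x = 0
      · rw [h0, sub_zero]; exact IsSquare.one
      by_cases h1 : y / x = 1
      · rw [h1, sub_self]; exact IsSquare.zero
      exact hall _ h0 h1 (hy.div hx)
    have := hx.mul key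
    rwa [mul_sub, mul_one, mul_div_cancel₀ _ hx0] at this
  let S : AddSubgroup K := AddSubgroup.ofSub {x : K | IsSquare x} ⟨0, IsSquare.zero⟩
    (fun x hx y hy => by rw [← sub_eq_add_neg]; exact hsub x y hx hy)
  have hdvd : Nat.card S ∣ Fintype.card K := Nat.card_eq_fintype_card (α := K) ▸ S.card_addSubgroup_dvd_card
  have hne : S ≠ ⊤ := fun h => by
    obtain ⟨x, hx⟩ := FiniteField.exists_nonsquare hchar
    exact hx (show x ∈ S from h ▸ AddSubgroup.mem_top x)
  -- squaring is at most two to one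
  have hle : Fintype.card K ≤ 2 * Nat.card S := by
    rw [← Finset.card_univ, Nat.card_eq_fintype_card, Fintype.card_subtype]
    refine (Finset.card_le_mul_card_image (f := fun x : K => x * x) Finset.univ 2 fun y hy => ?_).trans ?_
    · obtain ⟨r, -, rfl⟩ := Finset.mem_image.mp hy
      refine (Finset.card_le_card (t := {r, -r}) fun x hx => ?_).trans Finset.card_le_two
      have := (Finset.mem_filter.mp hx).2
      simp [mul_self_eq_mul_self_iff.mp this]
    · refine Nat.mul_le_mul_left _ (Finset.card_le_card fun y hy => ?_)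
      obtain ⟨r, -, rfl⟩ := Finset.mem_image.mp hy
      exact Finset.mem_filter.mpr ⟨Finset.mem_univ _, r, rfl⟩
  obtain ⟨m, hm⟩ := hdvd
  rcases Nat.lt_or_ge m 2 with h | h
  · interval_cases m
    · omega
    · refine hne (AddSubgroup.eq_top_of_card_eq _ ?_)
      rw [Nat.card_eq_fintype_card (α := K)]; omega
  · have h2 : Nat.card S * 2 ≤ Nat.card S * m := Nat.mul_le_mul_left _ h
    omega

/-- Coordinates on the points other than `a`. -/
structure Coord (K : Type) [Field K] (a b : Ω) (F : Subgroup G) (φ : K → Ω) (w : G) : Prop where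
  inj : Function.Injective φ
  ne : ∀ x, φ x ≠ a
  surj : ∀ y, y ≠ a → ∃ x, φ x = y
  zero : φ 0 = b
  swap : w • a = b
  swap' : w • b = a
  invol : ∀ x, x ≠ 0 → w • φ x = φ x⁻¹
  translate : ∀ u ∈ F, ∃ c : K, ∀ x, u • φ x = φ (c + x)
  dilate : ∀ g : G, g • a = a → g • b = b → ∃ c : K, c ≠ 0 ∧ IsSquare c ∧ ∀ x, g • φ x = φ (c * x)

/-- All elements exchanging the two points are involutions. -/
theorem swap_involution (Z : ZGrp G Ω) (hab : a ≠ b)
    (heven : Even (Nat.card ↥(stabilizer G a ⊓ stabilizer G b)))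
    (hle : 2 * Nat.card ↥(stabilizer G a ⊓ stabilizer G b) ≤ Fintype.card Ω - 2) (g : G)
    (hga : g • a = b) (hgb : g • b = a) : g * g = 1 := by
  classical
  haveI := Fintype.ofFinite G
  set H := stabilizer G a ⊓ stabilizer G b with hH
  have hu : ∀ c : {c : Ω // c ≠ a ∧ c ≠ b}, ∃ u : G,
      (u • a = b ∧ u • b = a) ∧ u * u = 1 ∧ u ≠ 1 ∧ u • (c : Ω) = c := by
    rintro ⟨c, hca, hcb⟩
    obtain ⟨u, huu, h1, ha, hb, hc⟩ := exists_swap_fixing Z.two Z.three hab heven c hca hcb
    exact ⟨u, ⟨ha, hb⟩, huu, h1, hc⟩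
  choose f hf1 hf2 hf3 hf4 using hu
  set S := Finset.univ.filter fun g : G => g • a = b ∧ g • b = a with hS
  have hScard : S.card ≤ Nat.card H := by
    rcases S.eq_empty_or_nonempty with h | ⟨s, hs⟩
    · simp [h]
    obtain ⟨hsa, hsb⟩ := (Finset.mem_filter.mp hs).2
    rw [Nat.card_eq_fintype_card, ← Finset.card_univ]
    refine Finset.card_le_card_of_injOn (fun g => if hg : g • a = b ∧ g • b = a then
      (⟨s⁻¹ * g, Subgroup.mem_inf.mpr ⟨by rw [mem_stabilizer_iff, mul_smul, hg.1, inv_smul_eq_iff, hsa],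
        by rw [mem_stabilizer_iff, mul_smul, hg.2, inv_smul_eq_iff, hsb]⟩⟩ : H) else 1)
      (fun g _ => Finset.mem_univ _) ?_
    intro x hx y hy hxy
    have hx' := (Finset.mem_filter.mp hx).2
    have hy' := (Finset.mem_filter.mp hy).2
    simp only [dif_pos hx', dif_pos hy'] at hxy
    exact mul_left_cancel (congrArg Subtype.val hxy)
  have h2 := Finset.card_le_mul_card_image (f := f) (Finset.univ) 2 (fun u hu => by
    by_contra hlt
    obtain ⟨x, hx, y, hy, w, hw, hxy, hxw, hyw⟩ := Finset.two_lt_card.mp (not_le.mp hlt)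
    simp only [Finset.mem_filter] at hx hy hw
    refine hf3 x (Z.three (f x) x.1 y.1 w.1 (fun h => hxy (Subtype.ext h)) (fun h => hyw (Subtype.ext h))
      (fun h => hxw (Subtype.ext h)) (hf4 x) ?_ ?_)
    · rw [hx.2, ← hy.2]; exact hf4 y
    · rw [hx.2, ← hw.2]; exact hf4 w)
  have hsub : Fintype.card {c : Ω // c ≠ a ∧ c ≠ b} = Fintype.card Ω - 2 := by
    rw [Fintype.card_subtype, show Finset.univ.filter (fun c => c ≠ a ∧ c ≠ b) = ({a, b} : Finset Ω)ᶜ by
      ext c; simp, Finset.card_compl, Finset.card_pair hab]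
  rw [Finset.card_univ, hsub] at h2
  have himg : Finset.univ.image f = S := by
    refine Finset.eq_of_subset_of_card_le (fun u hu => ?_) (by omega)
    obtain ⟨c, -, rfl⟩ := Finset.mem_image.mp hu
    exact Finset.mem_filter.mpr ⟨Finset.mem_univ _, hf1 c⟩
  have hg : g ∈ S := Finset.mem_filter.mpr ⟨Finset.mem_univ _, hga, hgb⟩
  rw [← himg] at hg
  obtain ⟨c, -, rfl⟩ := Finset.mem_image.mp hg
  exact hf2 c

theorem exists_coord (hZ : ZKer a F) (Z : ZGrp G Ω) (hab : a ≠ b)
    (heven : Even (Nat.card ↥(stabilizer G a ⊓ stabilizer G b)))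
    (hle : 2 * Nat.card ↥(stabilizer G a ⊓ stabilizer G b) ≤ Fintype.card Ω - 2) :
    ∃ (p f : ℕ) (K : Type) (_ : Field K) (_ : Fintype K) (φ : K → Ω) (w : G), p.Prime ∧ p ≠ 2 ∧
      Fintype.card K = p ^ f ∧ Fintype.card Ω = p ^ f + 1 ∧
      Fintype.card K = 2 * Nat.card ↥(stabilizer G a ⊓ stabilizer G b) + 1 ∧ Coord K a b F φ w := by
  classical
  have hle' := card_sub_two_le_two_mul' Z.two Z.three hab heven
  set H := stabilizer G a ⊓ stabilizer G b with hH
  set d := Nat.card H with hddef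
  have hmemH : ∀ {h : G}, h ∈ H → h • a = a ∧ h • b = b := fun hh => Subgroup.mem_inf.mp hh
  have hd1 := Z.stab_pos hab
  rw [← hH, ← hddef] at hd1
  obtain ⟨hFc, p, f, hp, hexp, hcardΩ⟩ := elementary hZ Z hab hle'
  haveI := Fact.mk hp
  have hn := hZ.card_add_one hab
  have hq : p ^ f = 2 * d + 1 := by omega
  have hp2 : p ≠ 2 := by
    rintro rfl
    rcases f with _ | f
    · omega
    · rw [pow_succ] at hq; omega
  -- inversion
  obtain ⟨c₀, hc₀a, hc₀b⟩ := Z.exists_third a b
  obtain ⟨s₀, hs₀, -, hs₀a, hs₀b, -⟩ := exists_swap_fixing Z.two Z.three hab heven c₀ hc₀a hc₀b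
  have hinvert : ∀ w : G, w • a = b → w • b = a → ∀ h ∈ H, w * h * w = h⁻¹ := by
    intro w hwa hwb h hh
    have h1 : (w * h) * (w * h) = 1 := swap_involution Z hab heven hle _
      (by rw [mul_smul, (hmemH hh).1, hwa]) (by rw [mul_smul, (hmemH hh).2, hwb])
    calc w * h * w = w * h * (w * h) * h⁻¹ := by group
    _ = h⁻¹ := by rw [h1, one_mul]
  have hHcomm : ∀ h ∈ H, ∀ k ∈ H, h * k = k * h := by
    intro h hh k hk
    have h1 := hinvert s₀ hs₀a hs₀b _ (H.mul_mem hh hk)
    rw [show s₀ * (h * k) * s₀ = s₀ * h * (s₀ * s₀) * k * s₀ by rw [hs₀]; group,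
      show s₀ * h * (s₀ * s₀) * k * s₀ = (s₀ * h * s₀) * (s₀ * k * s₀) by group,
      hinvert s₀ hs₀a hs₀b h hh, hinvert s₀ hs₀a hs₀b k hk, ← mul_inv_rev, inv_inj] at h1
    exact h1.symm
  -- the vector space
  obtain ⟨V, iV, iM, iF, τ, hτF, hτs, hτi, hτ0, hτadd⟩ :=
    exists_module (p := p) (fun u hu v hv => congrArg Subtype.val (isMulCommutative_iff.mp hFc ⟨u, hu⟩ ⟨v, hv⟩)) hexp
  choose lin0 hlin0 using fun (h : H) (x : V) => hτs _ (hZ.conj h (hmemH h.2).1 _ (hτF x))
  let lin : H → Module.End (ZMod p) V := fun h =>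
    AddMonoidHom.toZModLinearMap p (AddMonoidHom.mk' (lin0 h) (fun x y => hτi (by
      rw [hlin0, hτadd, hτadd, hlin0, hlin0]; group)))
  have hlin : ∀ (h : H) (x : V), τ (lin h x) = h * τ x * (h : G)⁻¹ := hlin0
  have hlmul : ∀ h k : H, lin h * lin k = lin (h * k) := fun h k => LinearMap.ext fun x => hτi (by
    rw [Module.End.mul_apply, hlin, hlin, hlin, Subgroup.coe_mul]; group)
  have hpt : ∀ (h : H) (v : V), τ (lin h v) • b = (h : G) • τ v • b := fun h v => by
    rw [hlin, hZ.conj_smul (hmemH h.2).2 (hτF v)]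
  have hfix : ∀ (h k : H) (v : V), v ≠ 0 → lin h v = lin k v → h = k := by
    intro h k v hv hhk
    have hm := hmemH (H.mul_mem (H.inv_mem k.2) h.2)
    have := hZ.fpf Z hab (g := (k : G)⁻¹ * h) hm.1 hm.2 (hτF v) (fun e => hv (hτi (e.trans hτ0.symm))) (by
      have e := congrArg τ hhk
      rw [hlin, hlin] at e
      calc (k : G)⁻¹ * h * τ v * ((k : G)⁻¹ * h)⁻¹ = (k : G)⁻¹ * ((h : G) * τ v * (h : G)⁻¹) * k := by group
      _ = τ v := by rw [e]; group)
    exact Subtype.ext (inv_mul_eq_one.mp this).symm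
  have hVcard : Nat.card V = 2 * d + 1 := by
    rw [← hq]
    have h : Nat.card V = Nat.card F := Nat.card_eq_of_bijective (fun v => ⟨τ v, hτF v⟩)
      ⟨fun v w h => hτi (congrArg Subtype.val h), fun u => by
        obtain ⟨v, hv⟩ := hτs u u.2
        exact ⟨v, Subtype.ext hv⟩⟩
    omega
  haveI := Fintype.ofFinite V
  have hirr : ∀ W : Submodule (ZMod p) V, (∀ h : H, ∀ v ∈ W, lin h v ∈ W) → W = ⊥ ∨ W = ⊤ := by
    intro W hW
    by_contra! hne
    obtain ⟨x, hxW, hx0⟩ := Submodule.exists_mem_ne_zero_of_ne_bot hne.1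
    obtain ⟨y, hyW⟩ : ∃ y : V, y ∉ W := by
      by_contra! hall
      exact hne.2 (eq_top_iff.mpr fun v _ => hall v)
    have hy0 : y ≠ 0 := fun e => hyW (e ▸ W.zero_mem)
    have hone : ∀ v, lin 1 v = v := fun v => hτi (by rw [hlin, Subgroup.coe_one]; group)
    have h1 : d + 1 ≤ Nat.card W := by
      have h : Nat.card H ≤ Nat.card {v : W // v ≠ 0} := Nat.card_le_card_of_injective
        (fun h => ⟨⟨lin h x, hW h x hxW⟩, fun e => hx0 (by
          have e' : lin h x = 0 := congrArg Subtype.val e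
          calc x = lin (h⁻¹ * h) x := by rw [inv_mul_cancel, hone]
          _ = lin h⁻¹ (lin h x) := by rw [← hlmul]; rfl
          _ = 0 := by rw [e', map_zero])⟩)
        (fun h k e => hfix h k x hx0 (congrArg (fun z => ((z.1 : W) : V)) e))
      rw [Nat.card_eq_fintype_card (α := {v : W // v ≠ 0}), Fintype.card_subtype_compl,
        Fintype.card_subtype_eq, ← Nat.card_eq_fintype_card] at h
      have := Nat.card_pos (α := W)
      omega
    have h2 : d + Nat.card W ≤ 2 * d + 1 := by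
      rw [← hVcard, hddef, ← Nat.card_sum]
      refine Nat.card_le_card_of_injective (Sum.elim (fun h => lin h y) (fun w : W => (w : V))) ?_
      refine Function.Injective.sumElim (fun h k e => hfix h k y hy0 e) Subtype.val_injective ?_
      intro h w e
      refine hyW ?_
      have := hW h⁻¹ _ w.2
      rw [← e, ← Module.End.mul_apply, hlmul, inv_mul_cancel, hone] at this
      exact this
    have hdvd : Nat.card W ∣ Nat.card V := W.toAddSubgroup.card_addSubgroup_dvd_card
    rw [hVcard, show Nat.card W = d + 1 by omega] at hdvd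
    have h3 : d + 1 ∣ 1 := (Nat.dvd_add_right hdvd).mp
      (show d + 1 ∣ 2 * d + 1 + 1 from ⟨2, by ring⟩)
    have := Nat.le_of_dvd one_pos h3
    omega
  -- the field
  set C := Subalgebra.centralizer (ZMod p) (Set.range lin) with hC
  have memC : ∀ {x : Module.End (ZMod p) V}, x ∈ C ↔ ∀ h : H, lin h * x = x * lin h := fun {x} => by
    rw [hC, Subalgebra.mem_centralizer_iff]
    exact ⟨fun h k => h _ ⟨k, rfl⟩, by rintro h _ ⟨k, rfl⟩; exact h k⟩
  have hlC : ∀ h : H, lin h ∈ C := fun h => memC.mpr fun k => by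
    rw [hlmul, hlmul, show k * h = h * k from Subtype.ext (hHcomm k k.2 h h.2)]
  have hinj : ∀ x ∈ C, x ≠ 0 → Function.Injective x := by
    intro x hx hx0
    rw [← LinearMap.ker_eq_bot]
    refine (hirr _ ?_).resolve_right fun h => hx0 (LinearMap.ker_eq_top.mp h)
    intro h v hv
    rw [LinearMap.mem_ker, ← Module.End.mul_apply, ← memC.mp hx h, Module.End.mul_apply,
      LinearMap.mem_ker.mp hv, map_zero]
  haveI : Nontrivial V := by
    rw [← Finite.one_lt_card_iff_nontrivial, hVcard]; omega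
  obtain ⟨v₁, hv₁⟩ := exists_ne (0 : V)
  haveI : Finite (Module.End (ZMod p) V) := Finite.of_injective (fun f => (f : V → V)) DFunLike.coe_injective
  haveI : NoZeroDivisors C := ⟨fun {x y} hxy => by
    by_contra! hne
    have ha : (x : Module.End (ZMod p) V) ≠ 0 := fun e => hne.1 (Subtype.ext e)
    refine hne.2 (Subtype.ext (LinearMap.ext fun v => hinj x x.2 ha ?_))
    have := LinearMap.congr_fun (congrArg Subtype.val hxy) v
    simpa using this⟩
  haveI : Nontrivial C := ⟨⟨1, 0, fun e => hv₁ (by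
    have := LinearMap.congr_fun (congrArg Subtype.val e) v₁
    simpa using this)⟩⟩
  haveI : IsDomain C := @NoZeroDivisors.to_isDomain _ (Subalgebra.toRing _) _ _
  letI : Field C := (Finite.isDomain_to_isField C).toField
  have hev : Function.Bijective (fun x : C => (x : Module.End (ZMod p) V) v₁) := by
    let ev : C →ₗ[ZMod p] V :=
      { toFun := fun x => (x : Module.End (ZMod p) V) v₁
        map_add' := fun x y => rfl
        map_smul' := fun c x => rfl }
    refine ⟨?_, ?_⟩
    · intro x y hxy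
      by_contra hne
      have hd' : (x : Module.End (ZMod p) V) - y ≠ 0 := fun e => hne (Subtype.ext (sub_eq_zero.mp e))
      refine hv₁ (hinj _ (C.sub_mem x.2 y.2) hd' ?_)
      rw [map_zero, LinearMap.sub_apply]
      exact sub_eq_zero.mpr hxy
    · show Function.Surjective ev
      rw [← LinearMap.range_eq_top]
      refine (hirr _ ?_).resolve_left fun e => hv₁ ?_
      · rintro h _ ⟨x, rfl⟩
        exact ⟨⟨lin h * (x : Module.End (ZMod p) V), C.mul_mem (hlC h) x.2⟩, rfl⟩
      · have : v₁ ∈ LinearMap.range ev := ⟨1, rfl⟩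
        rwa [e, Submodule.mem_bot] at this
  haveI : Fintype C := Fintype.ofFinite C
  have hCcard : Fintype.card C = p ^ f := by
    rw [← Nat.card_eq_fintype_card, Nat.card_eq_of_bijective _ hev, hVcard, hq]
  let g : {k : Fin (p ^ f) // True} ≃ C :=
    (Equiv.subtypeUnivEquiv fun _ => trivial).trans (Fintype.equivFinOfCardEq hCcard).symm
  letI : Field {k : Fin (p ^ f) // True} := g.field
  let R : {k : Fin (p ^ f) // True} ≃+* C :=
    { g with map_add' := fun x y => g.apply_symm_apply (g x + g y), map_mul' := fun x y => g.apply_symm_apply (g x * g y) }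
  let K := {k : Fin (p ^ f) // True}
  have hKcard : Fintype.card K = p ^ f := (Fintype.card_congr g).trans hCcard
  have hKcard' : Fintype.card K = 2 * d + 1 := hKcard.trans hq
  let φ : K → Ω := fun x => τ ((R x : Module.End (ZMod p) V) v₁) • b
  have φinj : Function.Injective φ := fun x y h =>
    R.injective (hev.1 (hτi (hZ.translate_inj hab.symm (hτF _) (hτF _) h)))
  have φne : ∀ x, φ x ≠ a := fun x => hZ.ne_of_mem (hτF _) hab.symm
  have φsurj : ∀ y, y ≠ a → ∃ x, φ x = y := by
    intro y hy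
    obtain ⟨u, hu, huy⟩ := hZ.exists_eq b y hab.symm hy
    obtain ⟨v, rfl⟩ := hτs u hu
    obtain ⟨x, hx⟩ := hev.2 v
    exact ⟨R.symm x, by show τ ((R (R.symm x) : Module.End (ZMod p) V) v₁) • b = y; rw [R.apply_symm_apply]; simp only at hx; rw [hx]; exact huy⟩
  have φzero : φ 0 = b := by
    show τ ((R 0 : Module.End (ZMod p) V) v₁) • b = b
    rw [map_zero]
    show τ 0 • b = b
    rw [hτ0, one_smul]
  let cf : H → K := fun h => R.symm ⟨lin h, hlC h⟩
  have hφh : ∀ (h : H) x, (h : G) • φ x = φ (cf h * x) := fun h x => by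
    show _ = τ ((R (cf h * x) : Module.End (ZMod p) V) v₁) • b
    rw [map_mul, R.apply_symm_apply]
    exact (hpt h _).symm
  have cf0 : ∀ h, cf h ≠ 0 := fun h e => by
    have h1 := hφh h 1
    rw [e, zero_mul, φzero] at h1
    have : φ 1 = b := MulAction.injective (h : G) (h1.trans (hmemH h.2).2.symm)
    exact one_ne_zero (φinj (this.trans φzero.symm))
  have cfinj : Function.Injective cf := fun h k e =>
    hfix h k v₁ hv₁ (LinearMap.congr_fun (congrArg Subtype.val (R.symm.injective e)) v₁)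
  have cf1 : cf 1 = 1 := by
    refine φinj ?_
    rw [← mul_one (cf 1), ← hφh, Subgroup.coe_one, one_smul]
  have cfmul : ∀ h k, cf (h * k) = cf h * cf k := fun h k => φinj (by
    rw [← mul_one (cf (h * k)), ← hφh, Subgroup.coe_mul, mul_smul, hφh k, hφh, mul_one])
  let cfh : H →* K := { toFun := cf, map_one' := cf1, map_mul' := cfmul }
  have hchar : ringChar K ≠ 2 := fun h => by
    have := FiniteField.even_card_of_char_two h
    omega
  have hsq_iff : ∀ c : K, c ≠ 0 → (IsSquare c ↔ c ^ d = 1) := fun c hc => by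
    rw [FiniteField.isSquare_iff hchar hc, hKcard', show (2 * d + 1) / 2 = d by omega]
  have cfsq : ∀ h, IsSquare (cf h) := fun h => (hsq_iff _ (cf0 h)).mpr (by
    show cfh h ^ d = 1
    rw [← map_pow, hddef, pow_card_eq_one', map_one])
  have sqcf : ∀ c : K, c ≠ 0 → IsSquare c → ∃ h, cf h = c := by
    intro c hc hs
    haveI := Fintype.ofFinite H
    let S := Finset.univ.image cf
    have hS : S.card = d := by
      rw [Finset.card_image_of_injective _ cfinj, Finset.card_univ, hddef, Nat.card_eq_fintype_card]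
    have hsub : S ⊆ (Polynomial.nthRoots d (1 : K)).toFinset := fun x hx => by
      obtain ⟨h, -, rfl⟩ := Finset.mem_image.mp hx
      rw [Multiset.mem_toFinset, Polynomial.mem_nthRoots (by omega)]
      exact (hsq_iff _ (cf0 h)).mp (cfsq h)
    have heq := Finset.eq_of_subset_of_card_le hsub
      (((Multiset.toFinset_card_le _).trans (Polynomial.card_nthRoots d 1)).trans hS.ge)
    have : c ∈ S := by
      rw [heq, Multiset.mem_toFinset, Polynomial.mem_nthRoots (by omega)]
      exact (hsq_iff c hc).mp hs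
    obtain ⟨h, -, hh⟩ := Finset.mem_image.mp this
    exact ⟨h, hh⟩
  have hnegsq : IsSquare (-1 : K) := (hsq_iff _ (neg_ne_zero.mpr one_ne_zero)).mpr heven.neg_one_pow
  have hadd : ∀ (u : G), u ∈ F → ∃ c : K, ∀ x, u • φ x = φ (c + x) := by
    intro u hu
    obtain ⟨v, rfl⟩ := hτs u hu
    obtain ⟨x₀, hx₀⟩ := hev.2 v
    refine ⟨R.symm x₀, fun x => ?_⟩
    show τ v • τ _ • b = τ ((R (R.symm x₀ + x) : Module.End (ZMod p) V) v₁) • b
    rw [map_add, R.apply_symm_apply, ← mul_smul, ← hτadd]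
    congr 3
    exact hx₀.symm
  -- the involution
  have he_a : φ 1 ≠ a := φne 1
  have he_b : φ 1 ≠ b := fun e => one_ne_zero (φinj (e.trans φzero.symm))
  obtain ⟨w, hww, hw1, hwa, hwb, hwe⟩ := exists_swap_fixing Z.two Z.three hab heven (φ 1) he_a he_b
  refine ⟨p, f, K, inferInstance, inferInstance, φ, w, hp, hp2, hKcard, hcardΩ, hKcard', φinj, φne,
    φsurj, φzero, hwa, hwb, ?_, hadd, fun g hga hgb => ?_⟩
  swap
  · exact ⟨cf ⟨g, Subgroup.mem_inf.mpr ⟨hga, hgb⟩⟩, cf0 _, cfsq _, fun x => hφh ⟨g, Subgroup.mem_inf.mpr ⟨hga, hgb⟩⟩ x⟩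
  have hs : ∀ x : K, ∃ y : K, x ≠ 0 → w • φ x = φ y ∧ y ≠ 0 := fun x => by
    by_cases hx : x = 0
    · exact ⟨0, fun h => absurd hx h⟩
    obtain ⟨y, hy⟩ := φsurj (w • φ x) fun e => hx (φinj ((MulAction.injective w (e.trans hwb.symm)).trans φzero.symm))
    exact ⟨y, fun _ => ⟨hy.symm, fun hy0 => φne x (MulAction.injective w
      (by show w • φ x = w • a; rw [hwa, ← hy, hy0, φzero]))⟩⟩
  choose s hs using hs
  have hswap : ∀ {x : K}, x ≠ 0 → w • φ x = φ (s x) := fun hx => (hs _ hx).1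
  have hs0 : ∀ {x : K}, x ≠ 0 → s x ≠ 0 := fun hx => (hs _ hx).2
  have hss : ∀ {x : K}, x ≠ 0 → s (s x) = x := fun {x} hx => φinj (by
    rw [← hswap (hs0 hx), ← hswap hx, smul_smul, hww, one_smul])
  have hwinv : w⁻¹ = w := inv_eq_of_mul_eq_one_right hww
  have hsc : ∀ c x : K, IsSquare c → c ≠ 0 → x ≠ 0 → s (c * x) = c⁻¹ * s x := by
    intro c x hc hc0 hx
    obtain ⟨h, rfl⟩ := sqcf c hc0 hc
    refine φinj ?_
    rw [← hswap (mul_ne_zero hc0 hx), ← hφh, show (cf h)⁻¹ = cf h⁻¹ from
      inv_eq_of_mul_eq_one_right (by rw [← cfmul, mul_inv_cancel, cf1]), ← hφh, ← hswap hx,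
      Subgroup.coe_inv, ← hinvert w hwa hwb h h.2, mul_smul, mul_smul, ← mul_smul w w, hww, one_smul]
  have hs1 : s 1 = 1 := φinj ((hswap one_ne_zero).symm.trans hwe)
  have hssq : ∀ c : K, IsSquare c → c ≠ 0 → s c = c⁻¹ := fun c hc hc0 => by
    simpa [hs1] using hsc c 1 hc hc0 one_ne_zero
  have hmulns : ∀ x y : K, ¬ IsSquare x → ¬ IsSquare y → IsSquare (x * y) := fun x y hx hy => by
    have hx0 : x ≠ 0 := fun e => hx (e ▸ IsSquare.zero)
    have hy0 : y ≠ 0 := fun e => hy (e ▸ IsSquare.zero)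
    rw [hsq_iff _ hx0] at hx
    rw [hsq_iff _ hy0] at hy
    rw [hsq_iff _ (mul_ne_zero hx0 hy0), mul_pow]
    have h2 : ∀ z : K, z ≠ 0 → z ^ d = 1 ∨ z ^ d = -1 := fun z hz => by
      have := FiniteField.pow_dichotomy hchar hz
      rwa [hKcard', show (2 * d + 1) / 2 = d by omega] at this
    rw [(h2 x hx0).resolve_left hx, (h2 y hy0).resolve_left hy, neg_mul_neg, one_mul]
  have hdiv : ∀ x y : K, IsSquare x → x ≠ 0 → ¬ IsSquare y → ¬ IsSquare (x * y) := fun x y hx hx0 hy h => by
    have := hx.inv.mul h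
    rw [inv_mul_cancel_left₀ hx0] at this
    exact hy this
  obtain ⟨u, hu⟩ := FiniteField.exists_nonsquare hchar
  have hu0 : u ≠ 0 := fun e => hu (e ▸ IsSquare.zero)
  have hsu : ¬ IsSquare (s u) := fun h => hu (by
    have h2 := hssq _ h (hs0 hu0)
    rw [hss hu0] at h2
    rw [h2]; exact h.inv)
  set γ := u * s u with hγ
  have hns : ∀ y : K, ¬ IsSquare y → s y = γ / y := by
    intro y hy
    have hy0 : y ≠ 0 := fun e => hy (e ▸ IsSquare.zero)
    have hyu : IsSquare (y / u) := by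
      rw [div_eq_mul_inv]
      exact hmulns _ _ hy (fun h => hu (by simpa using h.inv))
    have := hsc (y / u) u hyu (div_ne_zero hy0 hu0) hu0
    rw [div_mul_cancel₀ _ hu0] at this
    rw [this, hγ]
    rw [inv_div, div_mul_eq_mul_div]
  -- the braid relation
  obtain ⟨z, hz⟩ := sqcf (-1) (neg_ne_zero.mpr one_ne_zero) hnegsq
  obtain ⟨t, ht, hte⟩ := hZ.exists_eq b (φ 1) hab.symm he_a
  obtain ⟨c, hc⟩ := hadd t ht
  have hc1 : c = 1 := by
    have h1 := hc 0
    rw [φzero, hte, add_zero] at h1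
    exact (φinj h1).symm
  subst hc1
  set r : G := t * z with hr
  have hrx : ∀ x, r • φ x = φ (1 - x) := fun x => by
    rw [hr, mul_smul, hφh, hz, hc, neg_one_mul, sub_eq_add_neg]
  have hra : r • a = a := by rw [hr, mul_smul, (hmemH z.2).1, hZ.fix t ht]
  have hrb : r • b = φ 1 := by rw [← φzero, hrx, sub_zero]
  have hre : r • φ 1 = b := by rw [hrx, sub_self, φzero]
  have hbraid : w * r * w = r * w * r := by
    refine inv_mul_eq_one.mp (Z.three _ a b (φ 1) hab he_b.symm he_a.symm ?_ ?_ ?_)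
    all_goals
      rw [mul_smul, inv_smul_eq_iff]
      simp only [mul_smul, hwa, hwb, hwe, hra, hrb, hre]
  have hγ1 : γ = 1 := by
    obtain ⟨x, hx0, hx1, hxs, hxn⟩ := exists_square_sub_nonsquare (K := K) hKcard' heven (by omega)
    have h1x : 1 - x ≠ 0 := sub_ne_zero.mpr hx1.symm
    have e0 : 1 - x⁻¹ = (-x⁻¹) * (1 - x) := by rw [neg_mul, mul_sub, mul_one, inv_mul_cancel₀ hx0, neg_sub]
    have hxn' : ¬ IsSquare (1 - x⁻¹) := by
      rw [e0]
      refine hdiv _ _ ?_ (neg_ne_zero.mpr (inv_ne_zero hx0)) hxn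
      rw [← neg_one_mul]; exact hnegsq.mul hxs.inv
    have hx' : 1 - x⁻¹ ≠ 0 := fun e => hxn' (e ▸ IsSquare.zero)
    have h := congrArg (fun g : G => g • φ x) hbraid
    simp only [mul_smul] at h
    rw [hswap hx0, hssq x hxs hx0, hrx, hswap hx', hns _ hxn', hrx, hswap h1x, hns _ hxn, hrx] at h
    have h2 := φinj h
    rw [e0] at h2
    have e1 : γ / (-x⁻¹ * (1 - x)) = -(γ * x) / (1 - x) := by
      rw [neg_mul, div_neg, div_mul_eq_div_div, div_inv_eq_mul, neg_div]
    rw [e1, eq_sub_iff_add_eq, ← add_div, div_eq_one_iff_eq h1x] at h2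
    have h3 : (γ - 1) * (1 - x) = 0 := by linear_combination h2
    exact sub_eq_zero.mp ((mul_eq_zero.mp h3).resolve_right h1x)
  intro x hx
  rw [hswap hx]
  congr 1
  by_cases hxs : IsSquare x
  · exact hssq x hxs hx
  · rw [hns x hxs, hγ1, one_div]

end Cfsg.Agent.PermGp.ZEven
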